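import Groth.Agent.DCat.DTenBC
import Groth.Agent.DualLib.LBCAdj

/-!
# The existence binders of the comparison of restriction with derived tensor products hold
-/

set_option autoImplicit false
set_option backward.isDefEq.respectTransparency false
set_option backward.defeqAttrib.useBackward true
set_option linter.style.haveILetI false

universe u

open CategoryTheory CategoryTheory.Limits MonoidalCategory HomologicalComplex

attribute [local instance] HasDerivedCategory.standard

namespace Groth.Agent.Dual6Lib.BCDual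

open Groth.Agent.DCat

variable {R R' : Type u} [CommRing R] [CommRing R'] (φ : R →+* R')

/-- Restriction of the tensor product, on pairs up to homotopy. -/
noncomputable def resTenKIso : qq R' ⋙ (tensorK₂ R' ⋙ DRing.restrictD φ) ≅ DTen.resTen₂ φ :=
  (Functor.associator _ _ _).symm ≪≫ Functor.isoWhiskerRight (tensorK₂Iso R') (DRing.restrictD φ) ≪≫
    Functor.associator _ _ _ ≪≫ Functor.isoWhiskerLeft (DTen.tensorT R') (DTen.resFactors φ) ≪≫
    (Functor.associator _ _ _).symm

lemma isIso_resTenK ⦃X Y : KA R' × KA R'⦄ (s : X ⟶ Y) (hX : kflat₂ R' X) (hY : kflat₂ R' Y)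
    (hs : qisK₂ R' s) : IsIso ((tensorK₂ R' ⋙ DRing.restrictD φ).map s) := by
  haveI := isIso_tensorK₂_of_kflat s hX hY hs
  exact Functor.map_isIso (DRing.restrictD φ) ((tensorK₂ R').map s)

theorem hasResTen : DTen.HasResTen φ :=
  haveI : (tensorK₂ R' ⋙ DRing.restrictD φ).HasLeftDerivedFunctor (qisK₂ R') :=
    hasLeftDerived exists_kflat₂ (isIso_resTenK φ)
  hasLeftDerived_precomp (qq R') (qqIso R') (resTenKIso φ) _ (W := qisK₂ R')

theorem resLegIso [DTen.HasLTen R'] [DTen.HasResTen φ] : DTen.ResLegIso φ := by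
  haveI : ∀ p, IsIso ((DTen.resLegB φ).app p) := by
    rintro ⟨a, b⟩
    obtain ⟨K, hK, ⟨e⟩⟩ := exists_kflat_obj a
    obtain ⟨L, hL, ⟨e'⟩⟩ := exists_kflat_obj b
    refine (NatTrans.isIso_app_iff_of_iso (DTen.resLegB φ) (Iso.prod e e')).1 ?_
    haveI : IsIso ((DTen.εRes φ).app (K, L)) :=
      isIso_counit_precomp (qq R') (qqIso R') (resTenKIso φ) (DTen.qis₂ R') (W := qisK₂ R') exists_kflat₂
        (isIso_resTenK φ) ⟨hK, hL⟩
    haveI := isIso_ε_of_kflat hK hL
    haveI : IsIso ((DTen.resβB φ).app (K, L)) := by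
      dsimp [DTen.resβB]
      infer_instance
    exact IsIso.of_isIso_fac_right (DTen.resLegB_fac φ (K, L))
  exact ⟨NatIso.isIso_of_isIso_app _⟩

theorem hasLBase : DTen.HasLBase φ :=
  haveI := hasLBaseChange φ
  ⟨(DualLib.LBC.adj φ).isRightAdjoint⟩

/-- The two derived base change functors agree. -/
noncomputable def lbaseIso [DTen.HasLBase φ] [DRing.HasLBaseChange φ] : DTen.LBase φ ≅ DRing.LBaseChange φ :=
  Adjunction.leftAdjointUniq (DTen.baseAdj φ) (DualLib.LBC.adj φ)

end Groth.Agent.Dual6Lib.BCDual
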