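import Groth.Agent.Dual6Lib.BCDual.Binders
import Groth.Agent.DCat.DTenBCTor
import Groth.Agent.CAlgH3.DualUnbounded
import Groth.Agent.FlatCx12.PerfectHom

/-!
# Duals with respect to a dualizing complex commute with flat base change
-/

set_option autoImplicit false
set_option backward.isDefEq.respectTransparency false
set_option backward.defeqAttrib.useBackward true
set_option linter.style.haveILetI false

universe u

open CategoryTheory CategoryTheory.Limits CategoryTheory.Pretriangulated MonoidalCategory Opposite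

attribute [local instance] HasDerivedCategory.standard

namespace Groth.Agent.Dual6Lib.BCDual

open Groth.Agent.DCat Groth.Agent.DualLib

variable {A B : Type u} [CommRing A] [CommRing B] [Algebra A B] [IsNoetherianRing A] [IsNoetherianRing B]
  [Module.Flat A B]
variable [DTen.HasLTen A] [DTen.HasLTen B] [DTen.HasRHom A] [DTen.HasRHom B]

/-- `RHom_A(K, ω) ⊗ B ≅ RHom_B(K ⊗ B, ω ⊗ B)` for `K` with finite cohomology, `ω` and `ω ⊗ B` of finite injective
dimension. -/
theorem nonempty_dual_baseChange [DRing.HasLBaseChange (algebraMap A B)] {ω : Dual.D A}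
    (hω : Dual.IsDualizing A ω) (hω' : Dual.IsDualizing B ((DRing.LBaseChange (algebraMap A B)).obj ω))
    (K : Dual.D A) (hK : ∀ q, Module.Finite A (Dual.HD A K q)) :
    Nonempty ((DRing.LBaseChange (algebraMap A B)).obj ((DTen.RHomR A K).obj ω) ≅
      (DTen.RHomR B ((DRing.LBaseChange (algebraMap A B)).obj K)).obj
        ((DRing.LBaseChange (algebraMap A B)).obj ω)) := by
  let φ := algebraMap A B
  haveI := hasLBase φ
  haveI := hasResTen φ
  haveI := resLegIso φ
  have hd : letI := φ.toAlgebra; DRing.HasTorDimLE A 0 B := by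
    rw [show φ.toAlgebra = ‹Algebra A B› from Algebra.algebra_ext _ _ fun r => rfl]
    exact FlatCx12.PerfectHom.torDimLE_zero_of_flat B
  let eL := lbaseIso φ
  obtain ⟨a, b, hab⟩ := exists_injAmplitude hω
  obtain ⟨a₀, -, hge, -⟩ := exists_bound hω
  obtain ⟨a', b', hab'⟩ := exists_injAmplitude (isDualizing_of_iso (eL.app ω).symm hω')
  let F : (Dual.D A)ᵒᵖ ⥤ Dual.D B := (DTen.RHom A).flip.obj ω ⋙ DTen.LBase φ
  let G : (Dual.D A)ᵒᵖ ⥤ Dual.D B := (DTen.LBase φ).op ⋙ (DTen.RHom B).flip.obj ((DTen.LBase φ).obj ω)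
  let η : ∀ X, F.obj X ⟶ G.obj X := fun X => DTenBC.bc φ X.unop ω
  have nat : ∀ {X X'} (m : X ⟶ X'), F.map m ≫ η X' = η X ≫ G.map m :=
    fun {X X'} m => DTenBC.bc_natural φ ω m.unop
  haveI : IsIso (η (op K)) := (DerivedCategory.isIso_iff (ModuleCat.{u} B) _).2 fun i => by
    let H := DerivedCategory.homologyFunctor (ModuleCat.{u} B) i
    let n : ℤ := max (b - i + 1) (b' - i + 2)
    let T := ((ts A).triangleLTGE n).obj K
    have hT : T ∈ distTriang _ := (ts A).triangleLTGE_distinguished n K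
    let L := ((ts A).truncLT n).obj K
    haveI hL : L.IsLE (n - 1) := (ts A).isLE_truncLT_obj _ _ _ (by omega)
    have hLfin : ∀ q, Module.Finite A (Dual.HD A L q) := fun q => by
      rcases lt_or_ge q n with hq | hq
      · haveI := hK q
        exact Module.Finite.equiv (hTruncLT K n q hq).symm
      · haveI := ModuleCat.subsingleton_of_isZero (DerivedCategory.isZero_of_isLE L (n - 1) q (by omega))
        infer_instance
    haveI := hge
    haveI : IsIso (η (op T.obj₁)) :=
      DTenBC.isIso_bc_of_pseudoCoherent φ hd (K := L) ω (isPseudoCoherent' L (n - 1) hLfin) a₀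
    haveI h3 : T.obj₃.IsGE n := inferInstanceAs ((((ts A).truncGE n).obj K).IsGE n)
    haveI h4 : T.invRotate.obj₁.IsGE (n + 1) := (ts A).isGE_shift T.obj₃ n (-1) (n + 1) (by omega)
    have hF0 : ∀ (C : Dual.D A) (t : ℤ) [C.IsGE t], b - t < i → IsZero (H.obj (F.obj (op C))) := by
      intro C t _ ht
      haveI := isLE_RHomR C ω a b t hab
      haveI := DTenBC.isLE_LBase φ ((DTen.RHomR A C).obj ω) (b - t)
      exact DerivedCategory.isZero_of_isLE ((DTen.LBase φ).obj ((DTen.RHomR A C).obj ω)) (b - t) i ht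
    have hG0 : ∀ (C : Dual.D A) (t : ℤ) [C.IsGE t], b' - (t - 1) < i → IsZero (H.obj (G.obj (op C))) := by
      intro C t _ ht
      haveI : ((DTen.LBase φ).obj C).IsGE (t - 1) := by
        have := DTenBC.isGE_LBase φ hd C t
        rwa [show t - ((0 + 1 : ℕ) : ℤ) = t - 1 by omega] at this
      haveI := isLE_RHomR ((DTen.LBase φ).obj C) ((DTen.LBase φ).obj ω) a' b' (t - 1) hab'
      exact DerivedCategory.isZero_of_isLE
        ((DTen.RHomR B ((DTen.LBase φ).obj C)).obj ((DTen.LBase φ).obj ω)) (b' - (t - 1)) i ht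
    have key : ∀ (P : (Dual.D A)ᵒᵖ ⥤ Dual.D B),
        (∀ T ∈ (distinguishedTriangles : Set (Triangle (Dual.D A))),
          IsDistPair (P.map T.mor₂.op) (P.map T.mor₁.op)) →
        IsZero (H.obj (P.obj (op T.obj₃))) → IsZero (H.obj (P.obj (op T.invRotate.obj₁))) →
        IsIso (H.map (P.map T.mor₁.op)) := by
      intro P hP z₁ z₂
      obtain ⟨δ, h₁⟩ := hP T hT
      obtain ⟨δ', h₂⟩ := hP _ (inv_rot_of_distTriang _ hT)
      haveI : Mono (H.map (P.map T.mor₁.op)) :=
        (H.map_distinguished_exact _ h₁).mono_g (z₁.eq_of_src _ _)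
      haveI : Epi (H.map (P.map T.mor₁.op)) :=
        (H.map_distinguished_exact _ h₂).epi_f (z₂.eq_of_tgt _ _)
      exact isIso_of_mono_of_epi _
    haveI : IsIso (H.map (F.map T.mor₁.op)) :=
      key F (fun _ hT => DTenBC.pair_source φ ω hT) (hF0 _ n (by omega)) (hF0 _ (n + 1) (by omega))
    haveI : IsIso (H.map (G.map T.mor₁.op)) :=
      key G (fun _ hT => DTenBC.pair_op_comp (mapsTriOp_RHom _) _ (DTenBC.isDistPair_LBase φ (isDistPair_of_mem hT)))
        (hG0 _ n (by omega)) (hG0 _ (n + 1) (by omega))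
    have sq := congrArg H.map (nat T.mor₁.op)
    rw [H.map_comp, H.map_comp] at sq
    haveI : IsIso (H.map (η (op T.obj₂)) ≫ H.map (G.map T.mor₁.op)) := by
      rw [← sq]; infer_instance
    exact IsIso.of_isIso_comp_right (H.map (η (op T.obj₂))) (H.map (G.map T.mor₁.op))
  exact ⟨eL.symm.app _ ≪≫ asIso (η (op K)) ≪≫
    (DTen.RHomR B ((DTen.LBase φ).obj K)).mapIso (eL.app ω) ≪≫
    ((DTen.RHom B).mapIso (eL.app K).op.symm).app _⟩

end Groth.Agent.Dual6Lib.BCDual
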