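import Groth.Agent.Dual6Lib.BCDual.Binders
import Groth.Agent.DQCoh.MixIso
import Groth.Agent.DCat.DTenHom

/-!
# Right adjoints of restriction commute with the internal hom
-/

set_option autoImplicit false
set_option backward.isDefEq.respectTransparency false
set_option backward.defeqAttrib.useBackward true
set_option linter.style.haveILetI false

universe u

open CategoryTheory CategoryTheory.Limits MonoidalCategory HomologicalComplex

attribute [local instance] HasDerivedCategory.standard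

namespace Groth.Agent.Dual6Lib.BCDual

open Groth.Agent.DCat

variable {R R' : Type u} [CommRing R] [CommRing R'] (φ : R →+* R')

/-- `Q` turns tensoring with a K-flat complex into the derived tensor product. -/
noncomputable def tensorQIso {A : Type u} [CommRing A] [DTen.HasLTen A] {L : DRing.Cx A}
    (hL : IsKFlatFor (modT A) L) :
    DerivedCategory.Q ⋙ DTen.tensorRightD A (DerivedCategory.Q.obj L) ≅
      MonoidalCategory.tensorRight L ⋙ DerivedCategory.Q :=
  NatIso.ofComponents (fun Y => haveI := isIso_ε_of_right (K := Y) hL; asIso ((DTen.ε A).app (Y, L)))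
    (fun {Y Y'} f => by
      have h := (DTen.ε A).naturality ((Prod.mkHom f (𝟙 L)) : (Y, L) ⟶ (Y', L))
      dsimp at h ⊢
      simpa using h)

/-- The projection formula on complexes. -/
noncomputable def cxProjIso (L : DRing.Cx R) :
    DTen.resCx φ ⋙ MonoidalCategory.tensorRight L ≅
      MonoidalCategory.tensorRight ((DTen.extCx φ).obj L) ⋙ DTen.resCx φ :=
  NatIso.ofComponents (fun Y => DTen.braidCx _ L ≪≫ (DQCoh.mixIso φ L Y).symm ≪≫
      (DTen.resCx φ).mapIso (DTen.braidCx ((DTen.extCx φ).obj L) Y))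
    (fun {Y Y'} f => by
      have h₁ := DTen.braidCx_naturality ((DTen.resCx φ).map f) (𝟙 L)
      have h₂ := DQCoh.mixIso_natural φ (𝟙 L) f
      have h₃ := DTen.braidCx_naturality (𝟙 ((DTen.extCx φ).obj L)) f
      rw [CategoryTheory.Functor.map_id] at h₂
      simp only [MonoidalCategory.tensorHom_id, MonoidalCategory.id_tensorHom] at h₁ h₂ h₃
      dsimp
      rw [reassoc_of% h₁]
      simp only [Category.assoc]
      congr 1
      rw [Iso.eq_inv_comp, ← reassoc_of% h₂, Iso.hom_inv_id_assoc, ← Functor.map_comp, h₃, Functor.map_comp]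
      )

/-- The projection formula for the derived functors. -/
noncomputable def projIso [DTen.HasLTen R] [DTen.HasLTen R'] {L : DRing.Cx R} (hL : IsKFlatFor (modT R) L) :
    DRing.restrictD φ ⋙ DTen.tensorRightD R (DerivedCategory.Q.obj L) ≅
      DTen.tensorRightD R' (DerivedCategory.Q.obj ((DTen.extCx φ).obj L)) ⋙ DRing.restrictD φ :=
  let W := HomologicalComplex.quasiIso (ModuleCat.{u} R') (ComplexShape.up ℤ)
  let e : DerivedCategory.Q ⋙ DRing.restrictD φ ⋙ DTen.tensorRightD R (DerivedCategory.Q.obj L) ≅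
      DerivedCategory.Q ⋙ DTen.tensorRightD R' (DerivedCategory.Q.obj ((DTen.extCx φ).obj L)) ⋙
        DRing.restrictD φ :=
    (Functor.associator _ _ _).symm ≪≫ Functor.isoWhiskerRight (DTen.resFactors φ) _ ≪≫
      Functor.associator _ _ _ ≪≫ Functor.isoWhiskerLeft _ (tensorQIso hL) ≪≫
      (Functor.associator _ _ _).symm ≪≫ Functor.isoWhiskerRight (cxProjIso φ L) _ ≪≫
      Functor.associator _ _ _ ≪≫ Functor.isoWhiskerLeft _ (DTen.resFactors φ).symm ≪≫
      (Functor.associator _ _ _).symm ≪≫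
      Functor.isoWhiskerRight (tensorQIso (isKFlatFor_ext φ hL)).symm _ ≪≫ Functor.associator _ _ _
  Localization.liftNatIso DerivedCategory.Q W _ _ _ _ e

variable [DTen.HasLTen R] [DTen.HasLTen R'] [DTen.HasRHom R] [DTen.HasRHom R']

/-- `RHom_{R}(R', RHom_R(N, X)) ≅ RHom_{R'}(N ⊗ R', RHom_R(R', X))`. -/
theorem nonempty_rightAdjoint_RHomR [DRing.HasLBaseChange φ] (Rφ : Dual.D R ⥤ Dual.D R')
    (adj : DRing.restrictD φ ⊣ Rφ) (N : Dual.D R) :
    Nonempty (DTen.RHomR R N ⋙ Rφ ≅ Rφ ⋙ DTen.RHomR R' ((DRing.LBaseChange φ).obj N)) := by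
  haveI := hasLBase φ
  obtain ⟨L, hL, ⟨e⟩⟩ := exists_kflat_obj N
  haveI := isIso_baseCmp φ hL
  let e' : DerivedCategory.Q.obj ((DTen.extCx φ).obj L) ≅ (DRing.LBaseChange φ).obj N :=
    (asIso ((DTen.baseCmp φ).app L)).symm ≪≫ (DTen.LBase φ).mapIso e ≪≫ (lbaseIso φ).app N
  let p : DRing.restrictD φ ⋙ DTen.tensorRightD R N ≅
      DTen.tensorRightD R' ((DRing.LBaseChange φ).obj N) ⋙ DRing.restrictD φ :=
    Functor.isoWhiskerLeft _ ((DTen.LTen R).flip.mapIso e.symm) ≪≫ projIso φ hL ≪≫
      Functor.isoWhiskerRight ((DTen.LTen R').flip.mapIso e') _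
  exact ⟨Adjunction.rightAdjointUniq ((adj.comp (DTen.rhomAdj R N)).ofNatIsoLeft p)
    ((DTen.rhomAdj R' ((DRing.LBaseChange φ).obj N)).comp adj)⟩

end Groth.Agent.Dual6Lib.BCDual
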